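import Groth.Agent.L02.An.Mod.Skyscraper
import Groth.Agent.L02.An.Germ.Maps
import Mathlib.Algebra.Category.ModuleCat.ChangeOfRings
import Mathlib.Algebra.Homology.ShortComplex.ExactFunctor
import Mathlib.RingTheory.Flat.FaithfullyFlat.Algebra
import Mathlib.CategoryTheory.Adjunction.Unique
import Mathlib.AlgebraicGeometry.Modules.Sheaf

/-!
Stalks of the analytification of a module and its exactness.
-/

set_option autoImplicit false
set_option backward.isDefEq.respectTransparency false
set_option backward.isDefEq.respectTransparency.types false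

noncomputable section

open AlgebraicGeometry CategoryTheory CategoryTheory.Limits TopologicalSpace Opposite TensorProduct

namespace Groth.L02.An

open _root_.An

variable (X : Scheme.{0}) [X.Over SC]

/-- The structure sheaf of the analytic space. -/
def anComm : Mod.CommSheaf (top X) := ⟨holPresheaf X, (holRing X).property⟩

/-- The structure sheaf of the scheme. -/
def schComm : Mod.CommSheaf (X : TopCat.{0}) := ⟨X.presheaf, X.ringCatSheaf.property⟩

variable {X} (x : Pts X)

/-- Stalks of analytic modules. -/
abbrev stalkAn : AnMod X ⥤ ModuleCat.{0} ((holPresheaf X).stalk (x : top X)) :=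
  Mod.stalk (anComm X) (x : top X)

/-- Stalks of modules. -/
abbrev stalkSch : X.Modules ⥤ ModuleCat.{0} (X.presheaf.stalk (Pts.pt x)) :=
  Mod.stalk (schComm X) (Pts.pt x)

/-- The direct image of a skyscraper is a skyscraper. -/
def pushSkyHom (N : ModuleCat.{0} ((holPresheaf X).stalk (x : top X))) :
    (anPush X).obj ((Mod.skyF (anComm X) (x : top X)).obj N) ⟶
      (Mod.skyF (schComm X) (Pts.pt x)).obj ((ModuleCat.restrictScalars (φ x)).obj N) :=
  ⟨PresheafOfModules.homMk
    { app := fun U => AddCommGrpCat.ofHom
        { toFun := fun (s : Mod.Sec (A := anComm X) (x : top X) N ((baseF X).obj U.unop)) =>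
            ((fun h => s ⟨h.down⟩) :
              Mod.Sec (A := schComm X) (Pts.pt x) ((ModuleCat.restrictScalars (φ x)).obj N) U.unop)
          map_zero' := rfl
          map_add' := fun _ _ => rfl }
      naturality := fun U V i => rfl }
    (fun U r (s : Mod.Sec (A := anComm X) (x : top X) N ((baseF X).obj U.unop)) => funext fun h => by
      change ((holPresheaf X).germ ((baseF X).obj U.unop) (x : top X) h.down
          ((anToScheme X).c.app U r) : (holPresheaf X).stalk (x : top X)) • s ⟨h.down⟩ =
        φ x (X.presheaf.germ U.unop (Pts.pt x) h.down r) • (show N from s ⟨h.down⟩)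
      rw [show φ x (X.presheaf.germ U.unop (Pts.pt x) h.down r) =
        (holPresheaf X).germ ((baseF X).obj U.unop) (x : top X) h.down ((anToScheme X).c.app U r) from
          congrArg (fun g => g r) (PresheafedSpace.stalkMap_germ (anToScheme X) U.unop (x : top X) h.down)])⟩

instance (N : ModuleCat.{0} ((holPresheaf X).stalk (x : top X))) : IsIso (pushSkyHom x N) := by
  have : (SheafOfModules.forget X.ringCatSheaf ⋙ PresheafOfModules.toPresheaf _).ReflectsIsomorphisms :=
    inferInstanceAs (Scheme.Modules.toPresheaf X).ReflectsIsomorphisms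
  have : IsIso ((SheafOfModules.forget _ ⋙ PresheafOfModules.toPresheaf _).map (pushSkyHom x N)) := by
    have : ∀ U, IsIso (((SheafOfModules.forget _ ⋙ PresheafOfModules.toPresheaf _).map (pushSkyHom x N)).app U) :=
      fun U => by
        rw [ConcreteCategory.isIso_iff_bijective]
        exact ⟨fun s t h => funext fun a => congrFun h ⟨a.down⟩, fun s => ⟨fun a => s ⟨a.down⟩, rfl⟩⟩
    exact NatIso.isIso_of_isIso_app _
  exact isIso_of_reflects_iso _ (SheafOfModules.forget _ ⋙ PresheafOfModules.toPresheaf _)

/-- The same, naturally. -/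
def pushSkyIso : Mod.skyF (anComm X) (x : top X) ⋙ anPush X ≅
    ModuleCat.restrictScalars (φ x) ⋙ Mod.skyF (schComm X) (Pts.pt x) :=
  NatIso.ofComponents (fun N => asIso (pushSkyHom x N)) (fun {N N'} g => by
    refine SheafOfModules.hom_ext (PresheafOfModules.hom_ext fun U => ?_)
    ext s
    rfl)

/-- The stalk of an analytification. -/
def stalkIso : analytify X ⋙ stalkAn x ≅ stalkSch x ⋙ ModuleCat.extendScalars (φ x) :=
  ((analytifyAdj X).comp (Mod.adj (anComm X) (x : top X))).leftAdjointUniq
    (((Mod.adj (schComm X) (Pts.pt x)).comp (ModuleCat.extendRestrictScalarsAdj (φ x))).ofNatIsoRight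
      (pushSkyIso x).symm)

variable {M N : X.Modules} (f : M ⟶ N)

theorem map_stalkAn : ∃ (eM : (stalkAn x).obj ((analytify X).obj M) ≅
      (ModuleCat.extendScalars (φ x)).obj ((stalkSch x).obj M))
    (eN : (stalkAn x).obj ((analytify X).obj N) ≅
      (ModuleCat.extendScalars (φ x)).obj ((stalkSch x).obj N)),
    (stalkAn x).map ((analytify X).map f) =
      eM.hom ≫ (ModuleCat.extendScalars (φ x)).map ((stalkSch x).map f) ≫ eN.inv :=
  ⟨(stalkIso x).app M, (stalkIso x).app N,
    (NatIso.naturality_2 (stalkIso x) f).symm⟩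

variable [LocallyOfFiniteType (X ↘ SC)] [IsReduced X]

theorem faithfullyFlat_φ : letI := (φ x).toAlgebra
    Module.FaithfullyFlat (X.presheaf.stalk (Pts.pt x)) ((holPresheaf X).stalk (x : top X)) := by
  let _ := (φ x).toAlgebra
  have : Module.Flat (X.presheaf.stalk (Pts.pt x)) ((holPresheaf X).stalk (x : top X)) := flat_stalkMap x
  have : IsLocalHom (algebraMap (X.presheaf.stalk (Pts.pt x)) ((holPresheaf X).stalk (x : top X))) :=
    ((IsLocalRing.local_hom_TFAE (φ x)).out 0 2 rfl rfl).mpr (map_maximalIdeal_anStalk x).le
  exact Module.FaithfullyFlat.of_flat_of_isLocalHom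

theorem injective_analytify_map_iff :
    Function.Injective ((stalkAn x).map ((analytify X).map f)) ↔ Function.Injective ((stalkSch x).map f) := by
  let _ := (φ x).toAlgebra
  have := faithfullyFlat_φ x
  obtain ⟨eM, eN, h⟩ := map_stalkAn x f
  rw [h, ← Module.FaithfullyFlat.lTensor_injective_iff_injective (X.presheaf.stalk (Pts.pt x))
    ((holPresheaf X).stalk (x : top X)) ((stalkSch x).map f).hom]
  show Function.Injective (eN.toLinearEquiv.symm ∘ _ ∘ eM.toLinearEquiv) ↔ _
  rw [EquivLike.comp_injective, EquivLike.injective_comp]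
  rfl

theorem surjective_analytify_map_iff :
    Function.Surjective ((stalkAn x).map ((analytify X).map f)) ↔ Function.Surjective ((stalkSch x).map f) := by
  let _ := (φ x).toAlgebra
  have := faithfullyFlat_φ x
  obtain ⟨eM, eN, h⟩ := map_stalkAn x f
  rw [h, ← Module.FaithfullyFlat.lTensor_surjective_iff_surjective (X.presheaf.stalk (Pts.pt x))
    ((holPresheaf X).stalk (x : top X)) ((stalkSch x).map f).hom]
  show Function.Surjective (eN.toLinearEquiv.symm ∘ _ ∘ eM.toLinearEquiv) ↔ _
  rw [EquivLike.comp_surjective, EquivLike.surjective_comp]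
  rfl

theorem stMap_an_eq (y : top X) :
    ⇑((stalkAn (X := X) y).map ((analytify X).map f)) =
      Mod.stMap (A := anComm X) y ((analytify X).map f) := rfl

omit [IsReduced X] in
/-- An open set of the scheme around every closed point of `U` contains `U`. -/
theorem le_of_forall_pts {U W : X.Opens} (h : ∀ x : Pts X, Pts.pt x ∈ U → Pts.pt x ∈ W) : U ≤ W := by
  intro p hp
  by_contra hpW
  have : JacobsonSpace X := LocallyOfFiniteType.jacobsonSpace (X ↘ SC)
  obtain ⟨q, hq, hqc⟩ := nonempty_inter_closedPoints (Z := (U : Set X) ∩ (W : Set X)ᶜ) ⟨p, hp, hpW⟩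
    (U.2.isLocallyClosed.inter W.2.isClosed_compl.isLocallyClosed)
  obtain ⟨y, rfl⟩ := exists_pt_eq (X := X) hqc
  exact hq.2 (h y hq.1)

omit [IsReduced X] in
theorem stMap_of_pts {M N : (schComm X).Mods} (g : M ⟶ N) :
    ((∀ x : Pts X, Function.Injective (Mod.stMap (A := schComm X) (Pts.pt x) g)) → Mono g) ∧
      ((∀ x : Pts X, Function.Surjective (Mod.stMap (A := schComm X) (Pts.pt x) g)) → Epi g) := by
  have hP : ∀ U W : Opens (X : TopCat.{0}), (∀ y ∈ Set.range (Pts.pt : Pts X → X), y ∈ U → y ∈ W) → U ≤ W :=
    fun U W h => le_of_forall_pts fun x hx => h _ ⟨x, rfl⟩ hx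
  exact ⟨fun h => Mod.mono_of_injective g fun p => Mod.injective_of_veryDense p hP g (by
      rintro _ ⟨x, rfl⟩; exact h x),
    fun h => Mod.epi_of_surjective g fun p => Mod.surjective_of_veryDense p hP g (by
      rintro _ ⟨x, rfl⟩; exact h x)⟩

instance preservesColimits_analytify : PreservesColimitsOfSize.{0, 0} (analytify X) :=
  (analytifyAdj X).leftAdjoint_preservesColimits

theorem preservesMono_analytify [Mono f] : Mono ((analytify X).map f) :=
  Mod.mono_of_injective (A := anComm X) _ fun y =>
    (injective_analytify_map_iff (x := (y : Pts X)) f).mpr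
      (Mod.injective_of_mono (A := schComm X) (Pts.pt (y : Pts X)) f)

instance additive_anPush : (anPush X).Additive := ⟨fun {M N g h} => rfl⟩

theorem preservesFiniteLimits_analytify : PreservesFiniteLimits (analytify X) := by
  have : (analytify X).Additive := (analytifyAdj X).left_adjoint_additive
  have : PreservesFiniteColimits (analytify X) := PreservesColimitsOfSize.preservesFiniteColimits _
  rw [Functor.preservesFiniteLimits_iff_forall_exact_map_and_mono]
  intro S hS
  have := hS.mono_f
  exact ⟨((Functor.preservesFiniteColimits_iff_forall_exact_map_and_epi (analytify X)).mp inferInstance S hS).1,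
    preservesMono_analytify S.f⟩

theorem reflectsIsomorphisms_analytify : (analytify X).ReflectsIsomorphisms := by
  refine ⟨fun {M N} g hg => ?_⟩
  have hb : ∀ x : Pts X, Function.Bijective (Mod.stMap (A := schComm X) (Pts.pt x) g) := by
    intro x
    have h1 := ConcreteCategory.bijective_of_isIso ((stalkAn x).map ((analytify X).map g))
    exact ⟨(injective_analytify_map_iff x g).mp h1.1, (surjective_analytify_map_iff x g).mp h1.2⟩
  have : Mono g := (stMap_of_pts g).1 fun x => (hb x).1
  have : Epi g := (stMap_of_pts g).2 fun x => (hb x).2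
  exact isIso_of_mono_of_epi g

theorem faithful_analytify : (analytify X).Faithful := by
  have := preservesFiniteLimits_analytify (X := X)
  have := reflectsIsomorphisms_analytify (X := X)
  refine ⟨fun {M N} g h e => ?_⟩
  have : IsIso ((analytify X).map (equalizer.ι g h)) :=
    isIso_limit_cone_parallelPair_of_eq e (isLimitOfHasEqualizerOfPreservesLimit (analytify X) g h)
  have : IsIso (equalizer.ι g h) := isIso_of_reflects_iso _ (analytify X)
  exact eq_of_epi_equalizer

end Groth.L02.An
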