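import Mathlib.Algebra.Category.ModuleCat.Stalk
import Mathlib.Algebra.Category.ModuleCat.Sheaf
import Mathlib.Algebra.Category.ModuleCat.Sheaf.Abelian
import Mathlib.Algebra.Category.ModuleCat.Sheaf.Limits
import Mathlib.Algebra.Category.ModuleCat.EpiMono
import Mathlib.Topology.Sheaves.SheafCondition.UniqueGluing
import Mathlib.Topology.Sheaves.Stalks
import Mathlib.CategoryTheory.Adjunction.Basic
import Mathlib.Algebra.Category.Ring.Basic
import Mathlib.CategoryTheory.Sites.Whiskering

/-!
Stalks of sheaves of modules over a sheaf of commutative rings on a space, left adjoint to skyscrapers.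
-/

set_option autoImplicit false
set_option backward.isDefEq.respectTransparency false
set_option backward.isDefEq.respectTransparency.types false

noncomputable section

open CategoryTheory CategoryTheory.Limits Opposite TopologicalSpace

namespace Groth.L02.An.Mod

variable {T : TopCat.{0}}

/-- A sheaf of rings is given by a presheaf of commutative rings. -/
structure CommSheaf (T : TopCat.{0}) where
  R : T.Presheaf CommRingCat.{0}
  isSheaf : Presheaf.IsSheaf (Opens.grothendieckTopology T) (R ⋙ forget₂ CommRingCat RingCat.{0})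

variable (A : CommSheaf T)

/-- The underlying sheaf of rings. -/
abbrev CommSheaf.ring : TopCat.Sheaf RingCat.{0} T := ⟨A.R ⋙ forget₂ CommRingCat RingCat, A.isSheaf⟩

/-- Sheaves of modules. -/
abbrev CommSheaf.Mods : Type 1 := SheafOfModules.{0} A.ring

variable {A}

/-- The underlying presheaf of modules. -/
abbrev pre (M : A.Mods) : PresheafOfModules.{0} (A.R ⋙ forget₂ CommRingCat RingCat) := M.val

variable (x : T)

/-- The stalk. -/
abbrev St (M : A.Mods) : Type := ↑(TopCat.Presheaf.stalk (pre M).presheaf x)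

/-- Germs. -/
def germ (M : A.Mods) {U : Opens T} (hx : x ∈ U) : (pre M).obj (op U) →+ St x M :=
  (TopCat.Presheaf.germ (pre M).presheaf U x hx).hom

theorem germ_smul (M : A.Mods) {U : Opens T} (hx : x ∈ U) (r : A.R.obj (op U)) (m : (pre M).obj (op U)) :
    germ x M hx (r • m) = A.R.germ U x hx r • germ x M hx m :=
  PresheafOfModules.germ_smul (R := A.R) (pre M) x U hx r m

theorem exists_germ (M : A.Mods) (p : St x M) :
    ∃ (U : Opens T) (hx : x ∈ U) (m : (pre M).obj (op U)), germ x M hx m = p := by
  obtain ⟨U, hx, m, rfl⟩ := TopCat.Presheaf.exists_germ_eq (pre M).presheaf (x := x) p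
  exact ⟨U, hx, m, rfl⟩

theorem germ_res (M : A.Mods) {U V : Opens T} (i : V ⟶ U) (hx : x ∈ V) (m : (pre M).obj (op U)) :
    germ x M hx ((pre M).presheaf.map i.op m) = germ x M (i.le hx) m :=
  TopCat.Presheaf.germ_res_apply (pre M).presheaf i x hx m

/-- The map on stalks, additively. -/
def stMap {M N : A.Mods} (f : M ⟶ N) : St x M →+ St x N :=
  ((TopCat.Presheaf.stalkFunctor AddCommGrpCat.{0} x).map ((PresheafOfModules.toPresheaf _).map f.val)).hom

theorem stMap_germ {M N : A.Mods} (f : M ⟶ N) {U : Opens T} (hx : x ∈ U) (m : (pre M).obj (op U)) :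
    stMap x f (germ x M hx m) = germ x N hx (f.val.app (op U) m) :=
  TopCat.Presheaf.stalkFunctor_map_germ_apply (C := AddCommGrpCat.{0}) (F := (pre M).presheaf) (G := (pre N).presheaf) U x hx
    ((PresheafOfModules.toPresheaf _).map f.val) m

theorem stMap_smul {M N : A.Mods} (f : M ⟶ N) (r : A.R.stalk x) (p : St x M) :
    stMap x f (r • p) = r • stMap x f p := by
  obtain ⟨W, hW, m, rfl⟩ := exists_germ x M p
  obtain ⟨V, hV, a, rfl⟩ := TopCat.Presheaf.exists_germ_eq A.R (x := x) r
  have hWV : x ∈ W ⊓ V := ⟨hW, hV⟩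
  rw [← germ_res x M (homOfLE inf_le_left : W ⊓ V ⟶ W) hWV m,
    ← TopCat.Presheaf.germ_res_apply A.R (homOfLE inf_le_right : W ⊓ V ⟶ V) x hWV a, ← germ_smul,
    stMap_germ, stMap_germ, ← germ_smul]
  exact congrArg (germ x N hWV) ((f.val.app _).hom.map_smul _ _)

variable (A) in
/-- The stalk functor. -/
def stalk : A.Mods ⥤ ModuleCat.{0} (A.R.stalk x) where
  obj M := ModuleCat.of _ (St x M)
  map f := ModuleCat.ofHom { toFun := stMap x f, map_add' := map_add _, map_smul' := stMap_smul x f }
  map_id M := by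
    ext p
    obtain ⟨U, hU, m, rfl⟩ := exists_germ x M p
    exact stMap_germ x (𝟙 M) hU m
  map_comp f g := by
    ext p
    obtain ⟨U, hU, m, rfl⟩ := exists_germ x _ p
    exact (stMap_germ x (f ≫ g) hU m).trans
      ((congrArg (stMap x g) (stMap_germ x f hU m)).trans (stMap_germ x g hU _)).symm

theorem stalk_map_apply {M N : A.Mods} (f : M ⟶ N) (p : St x M) :
    ((stalk A x).map f).hom p = stMap x f p := rfl

/-- A map injective on all stalks is a monomorphism. -/
theorem mono_of_injective {M N : A.Mods} (f : M ⟶ N) (h : ∀ x, Function.Injective (stMap x f)) : Mono f := by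
  refine ⟨fun {L} g k hgk => SheafOfModules.hom_ext (PresheafOfModules.hom_ext fun U => ?_)⟩
  ext l
  refine TopCat.Presheaf.section_ext (⟨(pre M).presheaf, M.isSheaf⟩ : TopCat.Sheaf AddCommGrpCat.{0} T)
    U.unop _ _ fun y hy => h y ?_
  refine (stMap_germ y f hy _).trans (Eq.trans (congrArg (germ y N hy) ?_) (stMap_germ y f hy _).symm)
  exact congr($(congrArg (fun a : L ⟶ N => a.val.app U) hgk) l)

/-- A map surjective on all stalks is an epimorphism. -/
theorem epi_of_surjective {M N : A.Mods} (f : M ⟶ N) (h : ∀ x, Function.Surjective (stMap x f)) : Epi f := by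
  refine ⟨fun {L} g k hgk => SheafOfModules.hom_ext (PresheafOfModules.hom_ext fun U => ?_)⟩
  ext m
  refine TopCat.Presheaf.section_ext (⟨(pre L).presheaf, L.isSheaf⟩ : TopCat.Sheaf AddCommGrpCat.{0} T)
    U.unop _ _ fun y hy => ?_
  obtain ⟨p, hp⟩ := h y (germ y N hy m)
  refine (stMap_germ y g hy m).symm.trans (Eq.trans ?_ (stMap_germ y k hy m))
  rw [← hp]
  obtain ⟨V, hV, l, rfl⟩ := exists_germ y M p
  rw [stMap_germ, stMap_germ, stMap_germ]
  exact congrArg (germ y L hV) congr($(congrArg (fun a : M ⟶ L => a.val.app (op V)) hgk) l)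

/-- A monomorphism is injective on stalks. -/
theorem injective_of_mono {M N : A.Mods} (f : M ⟶ N) [Mono f] : Function.Injective (stMap x f) := by
  rw [injective_iff_map_eq_zero]
  intro p hp
  obtain ⟨U, hU, m, rfl⟩ := exists_germ x M p
  rw [stMap_germ, ← map_zero (germ x N hU)] at hp
  obtain ⟨W, hW, i, j, e⟩ := TopCat.Presheaf.germ_eq (pre N).presheaf x hU hU _ _ hp
  have : PreservesFiniteLimits (SheafOfModules.evaluation A.ring (op W)) :=
    SheafOfModules.Finite.evaluationPreservesFiniteLimits _ _
  have hm : Mono (f.val.app (op W)) :=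
    ((SheafOfModules.evaluation A.ring (op W)).map_mono f)
  have h1 : f.val.app (op W) ((pre M).presheaf.map i.op m) = f.val.app (op W) 0 := by
    rw [map_zero]
    refine (ConcreteCategory.congr_hom (((PresheafOfModules.toPresheaf _).map f.val).naturality i.op) m).trans ?_
    exact e.trans (map_zero _)
  have h2 := (ModuleCat.mono_iff_injective _).mp hm h1
  rw [← germ_res x M i hW, h2, map_zero]

/-- Injectivity on stalks may be checked on a very dense set. -/
theorem injective_of_veryDense {P : Set T}
    (hP : ∀ U W : Opens T, (∀ y ∈ P, y ∈ U → y ∈ W) → U ≤ W) {M N : A.Mods} (g : M ⟶ N)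
    (h : ∀ y ∈ P, Function.Injective (stMap y g)) : Function.Injective (stMap x g) := by
  rw [injective_iff_map_eq_zero]
  intro a ha
  obtain ⟨U, hU, m, rfl⟩ := exists_germ x M a
  rw [stMap_germ, ← map_zero (germ x N hU)] at ha
  obtain ⟨V, hV, i, j, e⟩ := TopCat.Presheaf.germ_eq (pre N).presheaf x hU hU _ _ ha
  let m' : (pre M).obj (op V) := (pre M).presheaf.map i.op m
  have h0 : g.val.app (op V) m' = 0 := (ConcreteCategory.congr_hom
    (((PresheafOfModules.toPresheaf _).map g.val).naturality i.op) m).trans (e.trans (map_zero _))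
  let W₀ : Opens T := ⨆ W : {W : Opens T // ∃ hWV : W ≤ V,
    (pre M).presheaf.map (homOfLE hWV).op m' = 0}, W.1
  have hle : V ≤ W₀ := hP _ _ fun y hy hyV => by
    have h1 : germ y M hyV m' = germ y M hyV 0 := h y hy (by
      rw [stMap_germ, h0, map_zero, map_zero, map_zero])
    obtain ⟨W, hyW, i', j', e'⟩ := TopCat.Presheaf.germ_eq (pre M).presheaf y hyV hyV _ _ h1
    exact Opens.mem_iSup.mpr ⟨⟨W, i'.le, e'.trans (map_zero _)⟩, hyW⟩
  obtain ⟨⟨W, hWV, hW0⟩, hxW⟩ := Opens.mem_iSup.mp (hle hV)
  rw [← germ_res x M i hV m]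
  show germ x M hV m' = 0
  rw [← germ_res x M (homOfLE hWV) hxW m', hW0]
  exact map_zero _

/-- Surjectivity on stalks may be checked on a very dense set. -/
theorem surjective_of_veryDense {P : Set T}
    (hP : ∀ U W : Opens T, (∀ y ∈ P, y ∈ U → y ∈ W) → U ≤ W) {M N : A.Mods} (g : M ⟶ N)
    (h : ∀ y ∈ P, Function.Surjective (stMap y g)) : Function.Surjective (stMap x g) := by
  intro a
  obtain ⟨U, hU, t, rfl⟩ := exists_germ x N a
  let W₀ : Opens T := ⨆ W : {W : Opens T // ∃ (hWU : W ≤ U) (m : (pre M).obj (op W)),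
    g.val.app (op W) m = (pre N).presheaf.map (homOfLE hWU).op t}, W.1
  have hle : U ≤ W₀ := hP _ _ fun y hy hyU => by
    obtain ⟨b, hb⟩ := h y hy (germ y N hyU t)
    obtain ⟨V, hV, m, rfl⟩ := exists_germ y M b
    rw [stMap_germ] at hb
    obtain ⟨W, hyW, i, j, e⟩ := TopCat.Presheaf.germ_eq (pre N).presheaf y hV hyU _ _ hb
    exact Opens.mem_iSup.mpr ⟨⟨W, j.le, (pre M).presheaf.map i.op m,
      (ConcreteCategory.congr_hom
        (((PresheafOfModules.toPresheaf _).map g.val).naturality i.op) m).trans e⟩, hyW⟩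
  obtain ⟨⟨W, hWU, m, hm⟩, hxW⟩ := Opens.mem_iSup.mp (hle hU)
  refine ⟨germ x M hxW m, ?_⟩
  rw [stMap_germ, hm]
  exact germ_res x N (homOfLE hWU) hxW t

section Sky

variable (N : ModuleCat.{0} (A.R.stalk x))

/-- Sections of a skyscraper. -/
def Sec (U : Opens T) : Type := PLift (x ∈ U) → N

instance (U : Opens T) : AddCommGroup (Sec x N U) := inferInstanceAs (AddCommGroup (PLift (x ∈ U) → N))

instance secModule (U : Opens T) : Module (A.R.obj (op U)) (Sec x N U) where
  smul r s := fun h => (A.R.germ U x h.down r : A.R.stalk x) • s h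
  one_smul s := funext fun h => by
    change (A.R.germ U x h.down (1 : A.R.obj (op U)) : A.R.stalk x) • s h = _
    rw [map_one, one_smul]
  mul_smul r r' s := funext fun h => by
    change (A.R.germ U x h.down (r * r') : A.R.stalk x) • s h = _
    rw [map_mul, mul_smul]
    rfl
  smul_zero r := funext fun h => smul_zero _
  smul_add r s t := funext fun h => smul_add _ _ _
  add_smul r r' s := funext fun h => by
    change (A.R.germ U x h.down (r + r') : A.R.stalk x) • s h = _
    rw [map_add, add_smul]
    rfl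
  zero_smul s := funext fun h => by
    change (A.R.germ U x h.down (0 : A.R.obj (op U)) : A.R.stalk x) • s h = _
    rw [map_zero, zero_smul]
    rfl

/-- The skyscraper presheaf. -/
def abPre : (Opens T)ᵒᵖ ⥤ AddCommGrpCat.{0} where
  obj U := AddCommGrpCat.of (Sec x N U.unop)
  map {U V} i := AddCommGrpCat.ofHom
    { toFun := fun s h => s ⟨i.unop.le h.down⟩
      map_zero' := rfl
      map_add' := fun _ _ => rfl }

instance (U : (Opens T)ᵒᵖ) : Module ((A.R ⋙ forget₂ CommRingCat RingCat).obj U) ((abPre x N).obj U) :=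
  secModule x N U.unop

theorem abPre_map_smul ⦃U V : (Opens T)ᵒᵖ⦄ (i : U ⟶ V)
    (r : (A.R ⋙ forget₂ CommRingCat RingCat).obj U) (m : (abPre x N).obj U) :
    (abPre x N).map i (r • m) =
      (A.R ⋙ forget₂ CommRingCat RingCat).map i r • (abPre x N).map i m := by
  funext h
  change (A.R.germ U.unop x (i.unop.le h.down) r : A.R.stalk x) • m ⟨_⟩ =
    (A.R.germ V.unop x h.down (A.R.map i r) : A.R.stalk x) • m ⟨_⟩
  rw [show i = i.unop.op from rfl, TopCat.Presheaf.germ_res_apply]

theorem abPre_isSheaf : TopCat.Presheaf.IsSheaf (abPre x N) := by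
  rw [TopCat.Presheaf.isSheaf_iff_isSheafUniqueGluing]
  intro ι U sf hc
  classical
  let s : Sec x N (iSup U) := fun h =>
    sf (Opens.mem_iSup.1 h.down).choose ⟨(Opens.mem_iSup.1 h.down).choose_spec⟩
  refine ⟨s, fun i => funext fun h => ?_, fun t ht => funext fun h => ?_⟩
  · exact congrFun (hc _ i) ⟨⟨(Opens.mem_iSup.1 ((Opens.leSupr U i).le h.down)).choose_spec, h.down⟩⟩
  · exact congrFun (ht (Opens.mem_iSup.1 h.down).choose) ⟨(Opens.mem_iSup.1 h.down).choose_spec⟩

/-- The skyscraper module. -/
def sky : A.Mods where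
  val := PresheafOfModules.ofPresheaf (R := A.R ⋙ forget₂ CommRingCat RingCat) (abPre x N) (abPre_map_smul x N)
  isSheaf := abPre_isSheaf x N

variable {N}

/-- Functoriality of skyscrapers. -/
def skyMap {N' : ModuleCat.{0} (A.R.stalk x)} (f : N ⟶ N') : sky x N ⟶ sky x N' :=
  ⟨PresheafOfModules.homMk
    { app := fun U => AddCommGrpCat.ofHom
        { toFun := fun (s : Sec x N U.unop) => (fun h => f (s h) : Sec x N' U.unop)
          map_zero' := funext fun h => map_zero f.hom
          map_add' := fun s t => funext fun h => map_add f.hom _ _ }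
      naturality := fun _ _ _ => rfl }
    (fun U r m => funext fun h => f.hom.map_smul _ _)⟩

variable (A) in
/-- The skyscraper functor. -/
def skyF : ModuleCat.{0} (A.R.stalk x) ⥤ A.Mods where
  obj := sky x
  map f := skyMap x f
  map_id N := SheafOfModules.hom_ext (PresheafOfModules.hom_ext fun U => by ext s; rfl)
  map_comp f g := SheafOfModules.hom_ext (PresheafOfModules.hom_ext fun U => by ext s; rfl)

variable {M : A.Mods}

/-- From stalk maps to maps into the skyscraper. -/
def toHom (φ : (stalk A x).obj M ⟶ N) : M ⟶ sky x N :=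
  ⟨PresheafOfModules.homMk
    { app := fun U => AddCommGrpCat.ofHom
        { toFun := fun m => (fun h => φ (germ x M h.down m) : Sec x N U.unop)
          map_zero' := funext fun h => by rw [map_zero]; exact map_zero φ.hom
          map_add' := fun a b => funext fun h => by rw [map_add]; exact map_add φ.hom _ _ }
      naturality := fun U V i => by
        ext m
        funext h
        exact congrArg φ (germ_res x M i.unop h.down m) }
    (fun U r m => funext fun h => by
      change φ (germ x M h.down (r • m)) = (A.R.germ U.unop x h.down r : A.R.stalk x) • _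
      rw [germ_smul]
      exact φ.hom.map_smul _ _)⟩

variable (ψ : M ⟶ sky x N)

/-- The value at a germ. -/
def evalHom {U : Opens T} (hx : x ∈ U) : (pre M).obj (op U) →+ N where
  toFun m := (ψ.val.app (op U) m : Sec x N U) ⟨hx⟩
  map_zero' := congrFun (map_zero (ψ.val.app (op U)).hom) _
  map_add' a b := congrFun (map_add (ψ.val.app (op U)).hom a b) _

/-- The cocone on germs. -/
def evalNT : (OpenNhds.inclusion x).op ⋙ (pre M).presheaf ⟶
    (Functor.const _).obj (AddCommGrpCat.of N) where
  app U := AddCommGrpCat.ofHom (evalHom x ψ U.unop.2)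
  naturality U V i := by
    refine AddCommGrpCat.hom_ext (AddMonoidHom.ext fun m => ?_)
    exact congrFun (ConcreteCategory.congr_hom
      (((PresheafOfModules.toPresheaf _).map ψ.val).naturality ((OpenNhds.inclusion x).map i.unop).op) m)
      ⟨V.unop.2⟩

/-- The additive map on the stalk. -/
def evalStalk : St x M →+ N := (colimit.desc _ { pt := AddCommGrpCat.of N, ι := evalNT x ψ }).hom

theorem evalStalk_germ {U : Opens T} (hx : x ∈ U) (m : (pre M).obj (op U)) :
    evalStalk x ψ (germ x M hx m) = (ψ.val.app (op U) m : Sec x N U) ⟨hx⟩ :=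
  ConcreteCategory.congr_hom (colimit.ι_desc { pt := AddCommGrpCat.of N, ι := evalNT x ψ } (op ⟨U, hx⟩)) m

/-- From maps into the skyscraper to stalk maps. -/
def ofHom : (stalk A x).obj M ⟶ N :=
  ModuleCat.ofHom (X := (stalk A x).obj M)
    { toFun := evalStalk x ψ
      map_add' := map_add _
      map_smul' := fun r p => by
        obtain ⟨W, hW, m, rfl⟩ := exists_germ x M p
        obtain ⟨V, hV, a, rfl⟩ := TopCat.Presheaf.exists_germ_eq A.R (x := x) r
        have hWV : x ∈ W ⊓ V := ⟨hW, hV⟩
        change evalStalk x ψ (A.R.germ V x hV a • germ x M hW m) = A.R.germ V x hV a • _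
        rw [← germ_res x M (homOfLE inf_le_left : W ⊓ V ⟶ W) hWV m,
          ← TopCat.Presheaf.germ_res_apply A.R (homOfLE inf_le_right : W ⊓ V ⟶ V) x hWV a, ← germ_smul,
          evalStalk_germ, evalStalk_germ]
        exact congrFun ((ψ.val.app (op (W ⊓ V))).hom.map_smul _ _) ⟨hWV⟩ }

theorem ofHom_germ {U : Opens T} (hx : x ∈ U) (m : (pre M).obj (op U)) :
    ofHom x ψ (germ x M hx m) = (ψ.val.app (op U) m : Sec x N U) ⟨hx⟩ := evalStalk_germ x ψ hx m

end Sky

variable (A) in
/-- The stalk is left adjoint to the skyscraper. -/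
def adj : stalk A x ⊣ skyF A x :=
  Adjunction.mkOfHomEquiv
    { homEquiv := fun M N =>
        { toFun := toHom x
          invFun := ofHom x
          left_inv := fun φ => by
            ext p
            obtain ⟨U, hU, m, rfl⟩ := exists_germ x M p
            exact ofHom_germ x _ hU m
          right_inv := fun ψ => by
            refine SheafOfModules.hom_ext (PresheafOfModules.hom_ext fun U => ?_)
            ext m
            exact funext fun h => ofHom_germ x ψ h.down m }
      homEquiv_naturality_left_symm := fun {M' M N} f g => by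
        ext p
        obtain ⟨U, hU, m, rfl⟩ := exists_germ x M' p
        change ofHom x (f ≫ g) (germ x M' hU m) = ofHom x g (stMap x f (germ x M' hU m))
        rw [ofHom_germ, stMap_germ, ofHom_germ]
        rfl
      homEquiv_naturality_right := fun {M N N'} f g => rfl }

end Groth.L02.An.Mod
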